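import Mathlib.LinearAlgebra.TensorProduct.Quotient
import Mathlib.RingTheory.Flat.Basic
import Mathlib.RingTheory.Localization.AtPrime.Basic
import Mathlib.LinearAlgebra.FreeModule.Finite.Basic
import Mathlib.RingTheory.LocalRing.MaximalIdeal.Basic

/-!
# Small extensions and flat modules over a local homomorphism
-/

set_option autoImplicit false

universe u

open TensorProduct

namespace GrothLib.FlatHomZero20

/-- An element whose annihilator modulo `J` is in `p` kills only `p • N` modulo `J • N`. -/
theorem mem_smul_top_of_smul {A N : Type u} [CommRing A] [AddCommGroup N] [Module A N] [Module.Flat A N]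
    (J p : Ideal A) (a : A) (ha : ∀ r ∈ p, r * a ∈ J) (ha' : ∀ r : A, r * a ∈ J → r ∈ p) (y : N)
    (hy : a • y ∈ J • (⊤ : Submodule A N)) : y ∈ p • (⊤ : Submodule A N) := by
  let φ : (A ⧸ p) →ₗ[A] (A ⧸ J) := Submodule.mapQ p J (LinearMap.mulRight A a) (fun r hr => ha r hr)
  have hφ : Function.Injective φ := by
    rw [injective_iff_map_eq_zero]
    intro c hc
    obtain ⟨r, rfl⟩ := Submodule.Quotient.mk_surjective p c
    exact (Submodule.Quotient.mk_eq_zero p).2 (ha' r ((Submodule.Quotient.mk_eq_zero J).1 hc))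
  have hinj := Module.Flat.rTensor_preserves_injective_linearMap (M := N) φ hφ
  have h : LinearMap.rTensor N φ ((Ideal.Quotient.mk p 1) ⊗ₜ[A] y) = 0 := by
    rw [LinearMap.rTensor_tmul]
    have e : φ (Ideal.Quotient.mk p 1) = Ideal.Quotient.mk J a :=
      congrArg (Ideal.Quotient.mk J) (one_mul a)
    rw [e, ← (quotTensorEquivQuotSMul N J).map_eq_zero_iff, quotTensorEquivQuotSMul_mk_tmul]
    exact (Submodule.Quotient.mk_eq_zero _).2 hy
  have h2 : (Ideal.Quotient.mk p 1) ⊗ₜ[A] y = (0 : (A ⧸ p) ⊗[A] N) := hinj (by rw [h, map_zero])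
  rw [← (quotTensorEquivQuotSMul N p).map_eq_zero_iff, quotTensorEquivQuotSMul_mk_tmul, one_smul] at h2
  exact (Submodule.Quotient.mk_eq_zero _).1 h2

/-- Extended ideals act alike. -/
theorem mem_map_smul_top_iff {A B N : Type u} [CommRing A] [CommRing B] [Algebra A B] [AddCommGroup N]
    [Module A N] [Module B N] [IsScalarTower A B N] (J : Ideal A) (y : N) :
    y ∈ (J.map (algebraMap A B)) • (⊤ : Submodule B N) ↔ y ∈ J • (⊤ : Submodule A N) := by
  constructor
  · intro hy
    refine Submodule.smul_induction_on hy (fun c hc m _ => ?_) (fun x z hx hz => add_mem hx hz)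
    induction hc using Submodule.span_induction generalizing m with
    | mem b hb =>
      obtain ⟨a, ha, rfl⟩ := hb
      rw [algebraMap_smul]
      exact Submodule.smul_mem_smul ha trivial
    | zero => rw [zero_smul]; exact zero_mem _
    | add b c _ _ hb hc => rw [add_smul]; exact add_mem (hb m trivial) (hc m trivial)
    | smul r b _ hb => rw [smul_eq_mul, mul_comm, mul_smul]; exact hb (r • m) trivial
  · intro hy
    refine Submodule.smul_induction_on hy (fun c hc m _ => ?_) (fun x z hx hz => add_mem hx hz)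
    rw [← algebraMap_smul B c m]
    exact Submodule.smul_mem_smul (Ideal.mem_map_of_mem _ hc) trivial

variable {R A : Type u} [CommRing R] [CommRing A] [Algebra R A] (P : Ideal R) [P.IsMaximal]
  [IsLocalization.AtPrime A P] (I : Ideal R) (n : ℕ) (a : R)

include n in
/-- Contraction of an ideal containing a power of `P`. -/
theorem mem_of_algebraMap_mem (hI : P ^ n ≤ I) (h : algebraMap R A a ∈ I.map (algebraMap R A)) : a ∈ I := by
  obtain ⟨u, hu, hua⟩ := (IsLocalization.algebraMap_mem_map_algebraMap_iff P.primeCompl A I a).1 h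
  obtain ⟨v, m, hm, hvm⟩ : ∃ v, ∃ m ∈ P ^ n, v * u + m = 1 := by
    have hc : IsCoprime (Ideal.span {u}) (P ^ n) := by
      refine IsCoprime.pow_right ?_
      rw [Ideal.isCoprime_iff_sup_eq, sup_comm]
      refine (‹P.IsMaximal›.out).2 _ (lt_of_le_of_ne le_sup_left fun he => hu ?_)
      rw [he]
      exact Ideal.mem_sup_right (Ideal.mem_span_singleton_self u)
    obtain ⟨b, hb, c, hc, hbc⟩ := Ideal.isCoprime_iff_exists.1 hc
    obtain ⟨v, rfl⟩ := Ideal.mem_span_singleton'.1 hb
    exact ⟨v, c, hc, hbc⟩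
  rw [← one_mul a, ← hvm, add_mul, mul_assoc]
  exact add_mem (I.mul_mem_left v hua) (I.mul_mem_right a (hI hm))

include n in
/-- The annihilator of a socle element is the maximal ideal. -/
theorem socle_annihilator [IsLocalRing A] (hI : P ^ n ≤ I) (ha : a ∉ I) (hPa : ∀ r ∈ P, r * a ∈ I) (r : A) :
    r * algebraMap R A a ∈ I.map (algebraMap R A) ↔ r ∈ IsLocalRing.maximalIdeal A := by
  constructor
  · intro h
    by_contra hr
    obtain ⟨u, hu⟩ := IsLocalRing.notMem_maximalIdeal.1 hr
    refine ha (mem_of_algebraMap_mem (A := A) P I n a hI ?_)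
    have := (I.map (algebraMap R A)).mul_mem_left (↑u⁻¹ : A) h
    rwa [← hu, Units.inv_mul_cancel_left] at this
  · intro hr
    rw [← IsLocalization.AtPrime.map_eq_maximalIdeal P A] at hr
    induction hr using Submodule.span_induction with
    | mem b hb =>
      obtain ⟨p, hp, rfl⟩ := hb
      rw [← map_mul]
      exact Ideal.mem_map_of_mem _ (hPa p hp)
    | zero => rw [zero_mul]; exact zero_mem _
    | add b c _ _ hb hc => rw [add_mul]; exact add_mem hb hc
    | smul s b _ hb => rw [smul_eq_mul, mul_assoc]; exact Ideal.mul_mem_left _ s hb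

/-- Between a power of `P` and a proper ideal there is a socle element. -/
theorem exists_socle (P I : Ideal R) : ∀ n : ℕ, P ^ n ≤ I → I ≠ ⊤ → ∃ a ∉ I, ∀ r ∈ P, r * a ∈ I := by
  intro n
  induction n with
  | zero => exact fun h hI => absurd (top_le_iff.1 (by simpa using h)) hI
  | succ n ih =>
    intro h hI
    by_cases hn : P ^ n ≤ I
    · exact ih hn hI
    · obtain ⟨a, ha, ha'⟩ := SetLike.not_le_iff_exists.1 hn
      exact ⟨a, ha', fun r hr => h (by rw [pow_succ']; exact Ideal.mul_mem_mul hr ha)⟩

/-- Coordinates: with a retraction, a small multiple forces the maximal ideal. -/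
theorem mem_maximalIdeal_smul_of_retraction {A B N : Type u} [CommRing A] [CommRing B] [IsLocalRing A] [IsLocalRing B]
    [Algebra A B] [AddCommGroup N] [Module B N] [Module.Free B N] (ρ : B →+* A) [IsLocalHom ρ]
    (hρ : ∀ r, ρ (algebraMap A B r) = r) (J : Ideal A) (a : A)
    (ha' : ∀ r, r * a ∈ J → r ∈ IsLocalRing.maximalIdeal A) (y z : N)
    (hz : z ∈ RingHom.ker ρ • (⊤ : Submodule B N))
    (hy : z - algebraMap A B a • y ∈ J.map (algebraMap A B) • (⊤ : Submodule B N)) :
    y ∈ IsLocalRing.maximalIdeal B • (⊤ : Submodule B N) := by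
  let b := Module.Free.chooseBasis B N
  have key : ∀ (K : Ideal B) (w : N), w ∈ K • (⊤ : Submodule B N) → ∀ i, b.repr w i ∈ K := by
    intro K w hw i
    refine Submodule.smul_induction_on hw (fun c hc m _ => ?_) (fun x z hx hz => ?_)
    · rw [map_smul, Finsupp.smul_apply, smul_eq_mul]; exact K.mul_mem_right _ hc
    · rw [map_add, Finsupp.add_apply]; exact add_mem hx hz
  have hmap : (J.map (algebraMap A B)).map ρ ≤ J := by
    rw [Ideal.map_map, Ideal.map_le_iff_le_comap]
    intro r hr
    rw [Ideal.mem_comap, RingHom.comp_apply, hρ]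
    exact hr
  rw [← b.linearCombination_repr y, Finsupp.linearCombination_apply]
  refine Submodule.sum_mem _ fun i _ => Submodule.smul_mem_smul ?_ trivial
  have h2 := hmap (Ideal.mem_map_of_mem ρ (key _ _ hy i))
  rw [map_sub, map_smul, Finsupp.sub_apply, Finsupp.smul_apply, smul_eq_mul, map_sub, map_mul, hρ,
    RingHom.mem_ker.1 (key _ _ hz i), zero_sub, neg_mem_iff, mul_comm] at h2
  by_contra hnot
  exact (ha' _ h2) ((IsLocalRing.notMem_maximalIdeal.1 hnot).map ρ)

end GrothLib.FlatHomZero20
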