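import Groth.Agent.Lib.OX.Exact
import Groth.Agent.Lib.FunMor20.Scalar
import Groth.Prelude.Def_Formal

/-!
# Quotients by ideals of global functions
-/

set_option autoImplicit false
set_option linter.all false
set_option maxHeartbeats 1000000
set_option backward.isDefEq.respectTransparency false
set_option backward.isDefEq.respectTransparency.types false

universe u

open CategoryTheory CategoryTheory.Limits AlgebraicGeometry Opposite TopologicalSpace

noncomputable section

namespace GrothLib.FlatHomZero20

open Formal (smulModΓ)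

variable {X : Scheme.{u}} (F : X.Modules) (J : Ideal Γ(X, ⊤))

/-- Multiplications by the elements of an ideal. -/
def fam : (∐ fun _ : J => F) ⟶ F := Sigma.desc fun a => smulModΓ F a.1

/-- The quotient of `F` by an ideal of global functions. -/
def modI : X.Modules := cokernel (fam F J)

/-- The projection. -/
def modπ : F ⟶ modI F J := cokernel.π _

instance epi_modπ : Epi (modπ F J) := inferInstanceAs (Epi (cokernel.π _))

theorem smul_modπ (a : Γ(X, ⊤)) (ha : a ∈ J) : smulModΓ F a ≫ modπ F J = 0 := by
  rw [← Sigma.ι_desc (fun b : J => smulModΓ F b.1) ⟨a, ha⟩, Category.assoc]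
  show Sigma.ι _ _ ≫ fam F J ≫ cokernel.π _ = 0
  rw [cokernel.condition, comp_zero]

variable {F J} in
/-- Descent along the projection. -/
def modDesc {G : X.Modules} (g : F ⟶ G) (h : ∀ a ∈ J, smulModΓ F a ≫ g = 0) : modI F J ⟶ G :=
  cokernel.desc _ g (Sigma.hom_ext _ _ fun a => by
    rw [fam, Sigma.ι_desc_assoc, h a.1 a.2, comp_zero])

theorem modπ_desc {G : X.Modules} (g : F ⟶ G) (h : ∀ a ∈ J, smulModΓ F a ≫ g = 0) :
    modπ F J ≫ modDesc g h = g := cokernel.π_desc _ _ _

/-- Stalks of a multiplication. -/
theorem stalk_smulModΓ (r : Γ(X, ⊤)) (x : X) (e : (OX.stalk x).obj F) :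
    ((OX.stalk x).map (smulModΓ F r)).hom e = X.presheaf.germ ⊤ x trivial r • e := by
  obtain ⟨U, hx, m, rfl⟩ := OX.germ_exists (DCoh.toP.obj F) e
  refine (OX.stalkPre_map_germ _ U hx m).trans ?_
  refine (congrArg (OX.germ (DCoh.toP.obj F) U hx) (FunMor20.smulModΓ_app F r U m)).trans ?_
  refine (OX.germ_smul' (DCoh.toP.obj F) U hx (X.presheaf.map (homOfLE (le_top : U ≤ ⊤)).op r) m).trans ?_
  rw [TopCat.Presheaf.germ_res_apply]

/-- The ideal in a stalk. -/
def idealAt (x : X) : Ideal (X.presheaf.stalk x) := J.map (X.presheaf.germ ⊤ x trivial).hom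

theorem stalk_modπ_surjective (x : X) : Function.Surjective ((OX.stalk x).map (modπ F J)).hom :=
  (ModuleCat.epi_iff_surjective _).1 inferInstance

/-- The kernel of the projection on stalks. -/
theorem stalk_modπ_eq_zero_iff (x : X) (e : (OX.stalk x).obj F) :
    ((OX.stalk x).map (modπ F J)).hom e = 0 ↔
      e ∈ idealAt J x • (⊤ : Submodule (X.presheaf.stalk x) ((OX.stalk x).obj F)) := by
  constructor
  · intro he
    have hex : (ShortComplex.mk (fam F J) (modπ F J) (cokernel.condition _)).Exact :=
      ShortComplex.exact_of_g_is_cokernel _ (cokernelIsCokernel _)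
    have hx := (ShortComplex.moduleCat_exact_iff _).1 (hex.map (OX.stalk x)) e he
    obtain ⟨c, rfl⟩ := hx
    let N := idealAt J x • (⊤ : Submodule (X.presheaf.stalk x) ((OX.stalk x).obj F))
    have h0 : (OX.stalk x).map (fam F J) ≫ ModuleCat.ofHom N.mkQ = 0 := by
      refine (isColimitOfPreserves (OX.stalk x) (coproductIsCoproduct fun _ : J => F)).hom_ext fun ⟨a⟩ => ?_
      show (OX.stalk x).map (Sigma.ι _ a) ≫ _ = (OX.stalk x).map (Sigma.ι _ a) ≫ 0
      rw [comp_zero, ← Category.assoc, ← Functor.map_comp, fam, Sigma.ι_desc]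
      ext y
      show N.mkQ (((OX.stalk x).map (smulModΓ F a.1)).hom y) = 0
      rw [stalk_smulModΓ]
      exact (Submodule.Quotient.mk_eq_zero N).2 (Submodule.smul_mem_smul (Ideal.mem_map_of_mem _ a.2) trivial)
    exact (Submodule.Quotient.mk_eq_zero N).1 (ConcreteCategory.congr_hom h0 c)
  · intro he
    refine Submodule.smul_induction_on he (fun c hc m _ => ?_) (fun y z hy hz => by rw [map_add, hy, hz, add_zero])
    induction hc using Submodule.span_induction generalizing m with
    | mem b hb =>
      obtain ⟨a, ha, rfl⟩ := hb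
      rw [← stalk_smulModΓ F a x m]
      have := congrArg (fun g => ((OX.stalk x).map g).hom m) (smul_modπ F J a ha)
      simpa [Functor.map_comp] using this
    | zero => rw [zero_smul, map_zero]
    | add b c _ _ hb hc => rw [add_smul, map_add, hb m trivial, hc m trivial, add_zero]
    | smul r b _ hb => rw [smul_eq_mul, mul_comm, mul_smul]; exact hb (r • m) trivial

/-- Pulling back kills the quotient when the functions vanish. -/
theorem isIso_pullback_modπ {Z : Scheme.{u}} (i : Z ⟶ X) (h : ∀ a ∈ J, i.appTop a = 0) :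
    IsIso ((Scheme.Modules.pullback i).map (modπ F J)) := by
  haveI : (Scheme.Modules.pullback i).IsLeftAdjoint :=
    (Scheme.Modules.pullbackPushforwardAdjunction i).isLeftAdjoint
  haveI : (Scheme.Modules.pullback i).Additive :=
    (Scheme.Modules.pullbackPushforwardAdjunction i).left_adjoint_additive
  have h0 : (Scheme.Modules.pullback i).map (fam F J) = 0 := by
    refine (isColimitOfPreserves (Scheme.Modules.pullback i) (coproductIsCoproduct fun _ : J => F)).hom_ext
      fun ⟨a⟩ => ?_
    show (Scheme.Modules.pullback i).map (Sigma.ι _ a) ≫ _ = (Scheme.Modules.pullback i).map (Sigma.ι _ a) ≫ 0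
    rw [comp_zero, ← Functor.map_comp, fam, Sigma.ι_desc, FunMor20.pullback_map_smulModΓ, h a.1 a.2]
    refine Scheme.Modules.hom_ext _ _ fun U => ?_
    ext m
    refine (FunMor20.smulModΓ_app _ _ U m).trans ?_
    rw [map_zero, zero_smul]
    rfl
  have hc := CokernelCofork.mapIsColimit _ (cokernelIsCokernel (fam F J)) (Scheme.Modules.pullback i)
  exact CokernelCofork.IsColimit.isIso_π _ hc h0

end GrothLib.FlatHomZero20

end
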