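import Groth.Agent.Lib.OX.Exact
import Groth.Agent.Lib.OX.PullbackStalk
import Groth.Agent.Lib.OX.FibreRank
import Groth.Agent.Lib.LocFreeHom.NearFibre
import Groth.Agent.Lib.FibreFlat.Stalk
import Mathlib.AlgebraicGeometry.Morphisms.ClosedImmersion

/-!
# Stalks of pullbacks of morphisms
-/

set_option autoImplicit false
set_option linter.all false
set_option maxHeartbeats 1000000
set_option backward.isDefEq.respectTransparency false
set_option backward.isDefEq.respectTransparency.types false

universe u

open CategoryTheory CategoryTheory.Limits AlgebraicGeometry Opposite TopologicalSpace TensorProduct IsLocalRing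

noncomputable section

namespace GrothLib.FlatHomZero20

variable {X Z : Scheme.{u}} (i : Z ⟶ X) (z : Z) {M N : X.Modules} (g : M ⟶ N)

theorem stalk_comp_apply {G : X.Modules} (g' : N ⟶ G) (x : X) (e : (OX.stalk x).obj M) :
    ((OX.stalk x).map (g ≫ g')).hom e = ((OX.stalk x).map g').hom (((OX.stalk x).map g).hom e) := by
  rw [Functor.map_comp]; rfl

/-- The stalk of a pulled back map, through the base change. -/
theorem pullStalk_natural (c : (OX.stalk z).obj ((Scheme.Modules.pullback i).obj M)) :
    ((OX.pullStalkIso i z).app N).toLinearEquiv (((OX.stalk z).map ((Scheme.Modules.pullback i).map g)).hom c) =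
      ((ModuleCat.extendScalars (i.stalkMap z).hom).map ((OX.stalk (i z)).map g)).hom
        (((OX.pullStalkIso i z).app M).toLinearEquiv c) :=
  ConcreteCategory.congr_hom ((OX.pullStalkIso i z).hom.naturality g) c

/-- Values in the maximal ideal pull back to values in the maximal ideal. -/
theorem pullback_maximal_smul
    (hg : ∀ e, ((OX.stalk (i z)).map g).hom e ∈
      maximalIdeal (X.presheaf.stalk (i z)) • (⊤ : Submodule (X.presheaf.stalk (i z)) ((OX.stalk (i z)).obj N)))
    (c : (OX.stalk z).obj ((Scheme.Modules.pullback i).obj M)) :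
    ((OX.stalk z).map ((Scheme.Modules.pullback i).map g)).hom c ∈
      maximalIdeal (Z.presheaf.stalk z) • (⊤ : Submodule (Z.presheaf.stalk z)
        ((OX.stalk z).obj ((Scheme.Modules.pullback i).obj N))) := by
  let B := X.presheaf.stalk (i z)
  let C := Z.presheaf.stalk z
  letI : Algebra B C := (i.stalkMap z).hom.toAlgebra
  let W := (ModuleCat.extendScalars (i.stalkMap z).hom).map ((OX.stalk (i z)).map g)
  let K : Submodule C ((ModuleCat.extendScalars (i.stalkMap z).hom).obj ((OX.stalk (i z)).obj N)) :=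
    maximalIdeal C • ⊤
  have hr : ∀ (r : C) (q : (OX.stalk (i z)).obj N),
      q ∈ maximalIdeal B • (⊤ : Submodule B ((OX.stalk (i z)).obj N)) →
      (show (ModuleCat.extendScalars (i.stalkMap z).hom).obj ((OX.stalk (i z)).obj N) from r ⊗ₜ[B] q) ∈ K := by
    intro r q hq
    refine Submodule.smul_induction_on hq (fun a ha m _ => ?_) (fun y y' hy hy' => ?_)
    · have h : algebraMap B C a ∈ maximalIdeal C := map_nonunit (i.stalkMap z).hom a ha
      have e : (r ⊗ₜ[B] (a • m) : C ⊗[B] (OX.stalk (i z)).obj N) = algebraMap B C a • (r ⊗ₜ[B] m) := by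
        rw [TensorProduct.smul_tmul', smul_eq_mul, ← Algebra.smul_def, TensorProduct.smul_tmul]
      rw [e]
      exact Submodule.smul_mem_smul h trivial
    · rw [TensorProduct.tmul_add]; exact K.add_mem hy hy'
  have hW : ∀ w, W.hom w ∈ K := by
    intro w
    induction w using TensorProduct.induction_on with
    | zero => exact (map_zero W.hom).symm ▸ K.zero_mem
    | tmul r m => exact hr r _ (hg m)
    | add y y' hy hy' => exact (map_add W.hom y y').symm ▸ K.add_mem hy hy'
  let E := ((OX.pullStalkIso i z).app N).toLinearEquiv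
  have h := hW (((OX.pullStalkIso i z).app M).toLinearEquiv c)
  rw [← pullStalk_natural] at h
  rw [← E.symm_apply_apply (((OX.stalk z).map ((Scheme.Modules.pullback i).map g)).hom c)]
  have hK : K.map E.symm.toLinearMap ≤ maximalIdeal C • ⊤ := by
    rw [Submodule.map_smul'']; exact Submodule.smul_mono le_rfl le_top
  exact hK ⟨_, h, rfl⟩

/-- A vanishing pullback forces values in the kernel. -/
theorem mem_ker_smul_of_pullback_eq_zero (hsurj : Function.Surjective (i.stalkMap z).hom)
    (h : (Scheme.Modules.pullback i).map g = 0) (e : (OX.stalk (i z)).obj M) :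
    ((OX.stalk (i z)).map g).hom e ∈
      RingHom.ker (i.stalkMap z).hom • (⊤ : Submodule (X.presheaf.stalk (i z)) ((OX.stalk (i z)).obj N)) := by
  letI : Algebra (X.presheaf.stalk (i z)) (Z.presheaf.stalk z) := (i.stalkMap z).hom.toAlgebra
  refine (LocFreeHom.one_tmul_eq_zero_iff hsurj _).1 ?_
  let EM := ((OX.pullStalkIso i z).app M).toLinearEquiv
  have h1 := pullStalk_natural i z g (EM.symm (show (ModuleCat.extendScalars (i.stalkMap z).hom).obj _ from
    (1 : Z.presheaf.stalk z) ⊗ₜ[X.presheaf.stalk (i z)] e))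
  rw [h, EM.apply_symm_apply] at h1
  refine Eq.trans ?_ (h1.symm.trans ?_)
  · rfl
  · rw [Functor.map_zero]
    exact map_zero _

/-- Over a field, values in the maximal ideal vanish. -/
theorem pullback_map_eq_zero_of_field {K : Type u} [Field K] (j : Spec (CommRingCat.of K) ⟶ X)
    (hg : ∀ (p : Spec (CommRingCat.of K)) (e : (OX.stalk (j p)).obj M), ((OX.stalk (j p)).map g).hom e ∈
      maximalIdeal (X.presheaf.stalk (j p)) • (⊤ : Submodule (X.presheaf.stalk (j p)) ((OX.stalk (j p)).obj N))) :
    (Scheme.Modules.pullback j).map g = 0 := by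
  refine (OX.eq_zero_iff _).2 fun p => ?_
  ext c
  have h := pullback_maximal_smul j p g (hg p) c
  have hm : maximalIdeal ((Spec (CommRingCat.of K)).presheaf.stalk p) = ⊥ :=
    IsLocalRing.isField_iff_maximalIdeal_eq.1 (OX.isField_stalk_spec _ (Field.toIsField K) p)
  rw [hm, Submodule.bot_smul] at h
  exact (Submodule.mem_bot _).1 h

/-- Kernels of stalk maps to a fibre. -/
theorem stalkMap_of_isPullback {S : Scheme.{u}} (f : X ⟶ S) {K : Type u} [Field K]
    (t : Spec (CommRingCat.of K) ⟶ S) [IsClosedImmersion t] (p : Z ⟶ Spec (CommRingCat.of K))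
    (h : IsPullback i p f t) :
    Function.Surjective (i.stalkMap z).hom ∧
      RingHom.ker (i.stalkMap z).hom =
        (maximalIdeal (S.presheaf.stalk (f (i z)))).map (f.stalkMap (i z)).hom := by
  let s : S := (Scheme.SpecToEquivOfField K S t).1
  let φ : S.residueField s ⟶ CommRingCat.of K := (Scheme.SpecToEquivOfField K S t).2
  have hφ : Spec.map φ ≫ S.fromSpecResidueField s = t :=
    (Scheme.SpecToEquivOfField K S).symm_apply_apply t
  haveI : IsClosedImmersion (Spec.map φ ≫ S.fromSpecResidueField s) := by rw [hφ]; infer_instance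
  haveI : IsClosedImmersion (Spec.map φ) := IsClosedImmersion.of_comp (Spec.map φ) (S.fromSpecResidueField s)
  have hsurj : Function.Surjective φ.hom := fun c => by
    obtain ⟨b, hb⟩ := (IsClosedImmersion.isAffine_surjective_of_isAffine (f := Spec.map φ)).2
      ((Scheme.ΓSpecIso (CommRingCat.of K)).inv c)
    obtain ⟨b', rfl⟩ : ∃ b', (Scheme.ΓSpecIso (S.residueField s)).inv b' = b :=
      ⟨(Scheme.ΓSpecIso (S.residueField s)).hom b, Iso.hom_inv_id_apply _ b⟩
    refine ⟨b', ?_⟩
    rw [← ConcreteCategory.comp_apply, ← Scheme.ΓSpecIso_inv_naturality, ConcreteCategory.comp_apply] at hb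
    simpa using congrArg (Scheme.ΓSpecIso (CommRingCat.of K)).hom hb
  haveI : IsIso φ := (ConcreteCategory.isIso_iff_bijective φ).2 ⟨φ.hom.injective, hsurj⟩
  haveI : IsIso (Spec.map φ) := inferInstance
  let e₁ : pullback f t ⟶ f.fiber s :=
    pullback.map f t f (S.fromSpecResidueField s) (𝟙 X) (Spec.map φ) (𝟙 S) (by simp) (by simp [hφ])
  haveI : IsIso e₁ := pullback.map_isIso _ _ _ _ _ _ _ _ _
  let e : Z ⟶ f.fiber s := h.isoPullback.hom ≫ e₁
  have he : i = e ≫ f.fiberι s := by
    show i = (h.isoPullback.hom ≫ e₁) ≫ f.fiberι s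
    rw [Category.assoc, show e₁ ≫ f.fiberι s = pullback.fst f t from
      (pullback.lift_fst _ _ _).trans (Category.comp_id _), h.isoPullback_hom_fst]
  suffices key : ∀ (e' : Z ⟶ f.fiber s) [IsIso e'] (i' : Z ⟶ X), i' = e' ≫ f.fiberι s →
      Function.Surjective (i'.stalkMap z).hom ∧ RingHom.ker (i'.stalkMap z).hom =
        (maximalIdeal (S.presheaf.stalk (f (i' z)))).map (f.stalkMap (i' z)).hom from key e i he
  rintro e _ i' rfl
  obtain ⟨hs, hk⟩ := FibreFlat.fiberι_stalkMap f s (e z)
  rw [Scheme.Hom.stalkMap_comp]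
  have hiso := (ConcreteCategory.isIso_iff_bijective (e.stalkMap z)).1 inferInstance
  refine ⟨hiso.2.comp hs, ?_⟩
  rw [CommRingCat.hom_comp, RingHom.ker_comp_of_injective _ hiso.1]
  exact hk

end GrothLib.FlatHomZero20

end
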