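import Groth.Agent.Lib.FlatHomZero20.Alg
import Groth.Agent.Lib.FlatHomZero20.Quot
import Groth.Agent.Lib.FlatHomZero20.Stalks
import Groth.Agent.Lib.QuasiFlat.Basic
import Mathlib.RingTheory.Filtration

/-!
# Morphisms of flat families vanishing on all infinitesimal neighbourhoods of a closed fibre
-/

set_option autoImplicit false
set_option linter.all false
set_option maxHeartbeats 2000000
set_option backward.isDefEq.respectTransparency false
set_option backward.isDefEq.respectTransparency.types false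

universe u

open CategoryTheory CategoryTheory.Limits AlgebraicGeometry Opposite TopologicalSpace TensorProduct IsLocalRing

noncomputable section

namespace GrothLib.FlatHomZero20

open Formal (smulModΓ)

variable {X S : Scheme.{u}} [IsAffine S] (f : X ⟶ S)

/-- The prime of a point of an affine scheme. -/
abbrev primeOf (s : S) : Ideal Γ(S, ⊤) := ((isAffineOpen_top S).primeIdealOf ⟨s, trivial⟩).asIdeal

theorem germ_appTop (y : X) (r : Γ(S, ⊤)) :
    X.presheaf.germ ⊤ y trivial (f.appTop r) = f.stalkMap y (S.presheaf.germ ⊤ (f y) trivial r) :=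
  (ConcreteCategory.congr_hom (Scheme.Hom.germ_stalkMap f ⊤ y trivial) r).symm

theorem idealAt_map (I : Ideal Γ(S, ⊤)) (y : X) :
    idealAt (I.map f.appTop.hom) y =
      (I.map (S.presheaf.germ ⊤ (f y) trivial).hom).map (f.stalkMap y).hom := by
  rw [idealAt, Ideal.map_map, Ideal.map_map]
  exact congrArg (fun q => Ideal.map q I) (RingHom.ext fun r => germ_appTop f y r)

theorem isMaximal_primeOf (s : S) (hs : IsClosed ({s} : Set S)) : (primeOf s).IsMaximal := by
  refine (PrimeSpectrum.isClosed_singleton_iff_isMaximal _).1 ?_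
  have h := ((isAffineOpen_top S).isoSpec.hom.homeomorph).isClosedMap _
    (show IsClosed ({⟨s, trivial⟩} : Set (⊤ : S.Opens)) by
      have e : ({⟨s, trivial⟩} : Set (⊤ : S.Opens)) = Subtype.val ⁻¹' ({s} : Set S) :=
        Set.ext fun z => ⟨fun hz => congrArg Subtype.val hz, fun hz => Subtype.ext hz⟩
      rw [e]
      exact IsClosed.preimage continuous_subtype_val hs)
  rw [Set.image_singleton] at h
  exact h

theorem isUnit_germ_iff (s : S) (r : Γ(S, ⊤)) :
    IsUnit (S.presheaf.germ ⊤ s trivial r) ↔ r ∉ primeOf s := by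
  letI := S.presheaf.algebra_section_stalk (⟨s, trivial⟩ : (⊤ : S.Opens))
  haveI := (isAffineOpen_top S).isLocalization_stalk ⟨s, trivial⟩
  exact IsLocalization.AtPrime.isUnit_to_map_iff (S.presheaf.stalk s) (primeOf s) r

theorem idealAt_eq_top_of_ne {s : S} (hs : IsClosed ({s} : Set S)) {y : X} (hy : f y ≠ s) :
    idealAt ((primeOf s).map f.appTop.hom) y = ⊤ := by
  obtain ⟨r, hr, hrs⟩ : ∃ r : Γ(S, ⊤), f y ∈ S.basicOpen r ∧ s ∉ S.basicOpen r := by
    obtain ⟨r, hle, hr⟩ := (isAffineOpen_top S).exists_basicOpen_le (V := ⟨{s}ᶜ, hs.isOpen_compl⟩)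
      ⟨f y, hy⟩ trivial
    exact ⟨r, hr, fun h => (hle h) rfl⟩
  rw [idealAt_map, Ideal.map_map, Ideal.eq_top_iff_one]
  have h1 : r ∈ primeOf s := by
    by_contra h
    exact hrs ((Scheme.mem_basicOpen_top _ _ _).2 ((isUnit_germ_iff s r).2 h))
  have h2 : IsUnit ((f.stalkMap y) (S.presheaf.germ ⊤ (f y) trivial r)) :=
    ((Scheme.mem_basicOpen_top _ _ _).1 hr).map _
  exact (Ideal.eq_top_iff_one _).1 (Ideal.eq_top_of_isUnit_mem _ (Ideal.mem_map_of_mem
    ((f.stalkMap y).hom.comp (S.presheaf.germ ⊤ (f y) trivial).hom) h1) h2)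

variable {E F : X.Modules}

/-- Composites into a quotient vanish iff the values lie in the ideal. -/
theorem comp_modπ_eq_zero_iff (g : E ⟶ F) (J : Ideal Γ(X, ⊤)) :
    g ≫ modπ F J = 0 ↔ ∀ (x : X) (e : (OX.stalk x).obj E), ((OX.stalk x).map g).hom e ∈
      idealAt J x • (⊤ : Submodule (X.presheaf.stalk x) ((OX.stalk x).obj F)) := by
  rw [OX.eq_zero_iff]
  refine forall_congr' fun x => ⟨fun h e => ?_, fun h => ?_⟩
  · rw [← stalk_modπ_eq_zero_iff, ← stalk_comp_apply, h]; rfl
  · ext e
    rw [stalk_comp_apply]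
    exact (stalk_modπ_eq_zero_iff F J x _).2 (h e)

/-- At a point over the closed fibre the quotient is killed by the maximal ideal. -/
theorem stalk_modI_killed {s : S} (hs : IsClosed ({s} : Set S)) {y : X} (hy : f y = s)
    (q : (OX.stalk y).obj (modI F ((primeOf s).map f.appTop.hom)))
    (hq : q ∈ (maximalIdeal (S.presheaf.stalk (f y))).map (f.stalkMap y).hom •
      (⊤ : Submodule (X.presheaf.stalk y) ((OX.stalk y).obj (modI F ((primeOf s).map f.appTop.hom))))) :
    q = 0 := by
  subst hy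
  haveI := isMaximal_primeOf _ hs
  letI := S.presheaf.algebra_section_stalk (⟨f y, trivial⟩ : (⊤ : S.Opens))
  haveI := (isAffineOpen_top S).isLocalization_stalk ⟨f y, trivial⟩
  have e : idealAt ((primeOf (f y)).map f.appTop.hom) y =
      (maximalIdeal (S.presheaf.stalk (f y))).map (f.stalkMap y).hom := by
    rw [idealAt_map]
    exact congrArg (fun K => Ideal.map (f.stalkMap y).hom K)
      (IsLocalization.AtPrime.map_eq_maximalIdeal (primeOf (f y)) (S.presheaf.stalk (f y)))
  rw [← e] at hq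
  refine Submodule.smul_induction_on hq (fun c hc m _ => ?_) (fun a b ha hb => by rw [ha, hb, add_zero])
  obtain ⟨n, rfl⟩ := stalk_modπ_surjective F ((primeOf (f y)).map f.appTop.hom) y m
  rw [← map_smul]
  exact (stalk_modπ_eq_zero_iff F _ y _).2 (Submodule.smul_mem_smul hc trivial)

/-- Multiplication by a socle element is injective modulo the ideal. -/
theorem mem_idealAt_of_smul (hfl : FlatMod.IsFlatOver f F) {s : S} (hs : IsClosed ({s} : Set S))
    (I : Ideal Γ(S, ⊤)) (n : ℕ) (hI : primeOf s ^ n ≤ I) (a : Γ(S, ⊤)) (ha : a ∉ I)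
    (hPa : ∀ r ∈ primeOf s, r * a ∈ I) (x : X) (y : (OX.stalk x).obj F)
    (h : X.presheaf.germ ⊤ x trivial (f.appTop a) • y ∈
      idealAt (I.map f.appTop.hom) x • (⊤ : Submodule (X.presheaf.stalk x) ((OX.stalk x).obj F))) :
    y ∈ idealAt ((primeOf s).map f.appTop.hom) x •
      (⊤ : Submodule (X.presheaf.stalk x) ((OX.stalk x).obj F)) := by
  by_cases hx : f x = s
  swap
  · rw [idealAt_eq_top_of_ne f hs hx, Submodule.top_smul]; trivial
  subst hx
  haveI := isMaximal_primeOf _ hs
  let A := S.presheaf.stalk (f x)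
  letI := S.presheaf.algebra_section_stalk (⟨f x, trivial⟩ : (⊤ : S.Opens))
  haveI : IsLocalization.AtPrime A (primeOf (f x)) := (isAffineOpen_top S).isLocalization_stalk ⟨f x, trivial⟩
  let B := X.presheaf.stalk x
  let N := F.presheaf.stalk x
  letI : Algebra A B := (f.stalkMap x).hom.toAlgebra
  letI : Module A N := FlatMod.moduleStalkOver f F x
  haveI : IsScalarTower A B N := IsScalarTower.of_algebraMap_smul fun _ _ => rfl
  haveI : Module.Flat A N := hfl x
  rw [idealAt_map] at h ⊢
  rw [germ_appTop] at h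
  have hsoc := socle_annihilator (A := A) (primeOf (f x)) I n a hI ha hPa
  have h1 : algebraMap Γ(S, ⊤) A a • (show N from y) ∈
      (I.map (algebraMap Γ(S, ⊤) A)) • (⊤ : Submodule A N) := by
    refine (mem_map_smul_top_iff (B := B) _ _).1 ?_
    rw [← algebraMap_smul (R := A) B (algebraMap Γ(S, ⊤) A a) (show N from y)]
    exact h
  have h2 := mem_smul_top_of_smul _ (maximalIdeal A) _ (fun r hr => (hsoc r).2 hr)
    (fun r hr => (hsoc r).1 hr) _ h1
  have h3 := (mem_map_smul_top_iff (B := B) _ _).2 h2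
  rw [← IsLocalization.AtPrime.map_eq_maximalIdeal (primeOf (f x)) A] at h3
  exact h3

variable (φ : E ⟶ F) (hfl : FlatMod.IsFlatOver f F)
  {Z : Scheme.{u}} {K : Type u} [Field K] (i : Z ⟶ X) (p : Z ⟶ Spec (CommRingCat.of K))
  (t : Spec (CommRingCat.of K) ⟶ S) [IsClosedImmersion t] (h : IsPullback i p f t) (z₀ : Z)

include hfl h in
/-- A map to a flat module with the fibre property vanishes modulo every power of the maximal ideal. -/
theorem comp_modπ_eq_zero [IsLocallyNoetherian S]
    (x₀ : X) (hx₀ : i z₀ = x₀) (s : S) (hs : f x₀ = s) (hsc : IsClosed ({s} : Set S))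
    [Module.Free (X.presheaf.stalk x₀) ((OX.stalk x₀).obj F)]
    (ρ : X.presheaf.stalk x₀ →+* S.presheaf.stalk (f x₀)) [IsLocalHom ρ]
    (hρ : ∀ r, ρ ((f.stalkMap x₀).hom r) = r)
    (hφ : ∀ e : (OX.stalk x₀).obj E, ((OX.stalk x₀).map φ).hom e ∈
      RingHom.ker ρ • (⊤ : Submodule (X.presheaf.stalk x₀) ((OX.stalk x₀).obj F)))
    (hfib : ∀ ψ : (Scheme.Modules.pullback i).obj E ⟶ (Scheme.Modules.pullback i).obj F,
      (∀ c, ((OX.stalk z₀).map ψ).hom c ∈ maximalIdeal (Z.presheaf.stalk z₀) •
        (⊤ : Submodule (Z.presheaf.stalk z₀) ((OX.stalk z₀).obj ((Scheme.Modules.pullback i).obj F)))) → ψ = 0)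
    (I : Ideal Γ(S, ⊤)) : ∀ n : ℕ, primeOf s ^ n ≤ I → φ ≫ modπ F (I.map f.appTop.hom) = 0 := by
  haveI : IsNoetherianRing Γ(S, ⊤) := IsLocallyNoetherian.component_noetherian ⟨⊤, isAffineOpen_top S⟩
  haveI := isMaximal_primeOf _ hsc
  induction I using WellFoundedGT.induction with
  | _ I ih =>
  intro n hn
  by_cases hI : I = ⊤
  · refine (comp_modπ_eq_zero_iff φ _).2 fun x e => ?_
    rw [hI, Ideal.map_top, idealAt, Ideal.map_top, Submodule.top_smul]; trivial
  obtain ⟨a, ha, hPa⟩ := exists_socle (primeOf s) I n hn hI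
  let P' := (primeOf s).map f.appTop.hom
  let I' := I.map f.appTop.hom
  let J : Ideal Γ(S, ⊤) := I ⊔ Ideal.span {a}
  let J' := J.map f.appTop.hom
  have hIJ : I < J := lt_of_le_of_ne le_sup_left fun he => ha (by
    rw [he]; exact Ideal.mem_sup_right (Ideal.mem_span_singleton_self a))
  have hJ0 := ih J hIJ n (hn.trans le_sup_left)
  let μ : modI F P' ⟶ modI F I' := modDesc (smulModΓ F (f.appTop a) ≫ modπ F I') (fun b hb => by
    rw [← Category.assoc, comp_modπ_eq_zero_iff]
    intro x e
    rw [stalk_comp_apply, stalk_smulModΓ, stalk_smulModΓ, smul_smul, ← map_mul]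
    refine Submodule.smul_mem_smul (Ideal.mem_map_of_mem _ ?_) trivial
    induction hb using Submodule.span_induction with
    | mem c hc =>
      obtain ⟨r, hr, rfl⟩ := hc
      rw [← map_mul, mul_comm]
      exact Ideal.mem_map_of_mem _ (hPa r hr)
    | zero => rw [mul_zero]; exact zero_mem _
    | add c c' _ _ hc hc' => rw [mul_add]; exact add_mem hc hc'
    | smul r c _ hc => rw [smul_eq_mul, mul_left_comm]; exact Ideal.mul_mem_left _ r hc)
  let π₂ : modI F I' ⟶ modI F J' := modDesc (modπ F J') (fun b hb =>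
    smul_modπ F J' b (Ideal.map_mono le_sup_left hb))
  have hμ : ∀ (x : X) (y : (OX.stalk x).obj F), ((OX.stalk x).map μ).hom (((OX.stalk x).map (modπ F P')).hom y) =
      ((OX.stalk x).map (modπ F I')).hom (X.presheaf.germ ⊤ x trivial (f.appTop a) • y) := fun x y => by
    rw [← stalk_comp_apply, modπ_desc, stalk_comp_apply, stalk_smulModΓ]
  haveI hmono : Mono μ := by
    refine (OX.mono_iff μ).2 fun x => (ModuleCat.mono_iff_injective _).2 ?_
    rw [injective_iff_map_eq_zero]
    intro q hq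
    obtain ⟨y, rfl⟩ := stalk_modπ_surjective F P' x q
    have hq' := (hμ x y).symm.trans hq
    rw [stalk_modπ_eq_zero_iff] at hq' ⊢
    exact mem_idealAt_of_smul f hfl hsc I n hn a ha hPa x y hq'
  have hw : μ ≫ π₂ = 0 := by
    rw [← cancel_epi (modπ F P'), comp_zero, ← Category.assoc, modπ_desc, Category.assoc, modπ_desc]
    exact smul_modπ F J' _ (Ideal.mem_map_of_mem _ (Ideal.mem_sup_right (Ideal.mem_span_singleton_self a)))
  have hex : (ShortComplex.mk μ π₂ hw).Exact := by
    refine (OX.exact_iff _).2 fun x => (ShortComplex.moduleCat_exact_iff _).2 fun q hq => ?_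
    obtain ⟨w, rfl⟩ := stalk_modπ_surjective F I' x q
    have hw' : ((OX.stalk x).map (modπ F J')).hom w = 0 := by
      rw [← modπ_desc (g := modπ F J') (h := fun b hb => smul_modπ F J' b (Ideal.map_mono le_sup_left hb)),
        stalk_comp_apply]
      exact hq
    rw [stalk_modπ_eq_zero_iff] at hw'
    have hJ' : idealAt J' x = idealAt I' x ⊔ Ideal.span {X.presheaf.germ ⊤ x trivial (f.appTop a)} := by
      simp only [J', J, I', idealAt, Ideal.map_sup, Ideal.map_span, Set.image_singleton]
    rw [hJ', Submodule.sup_smul, Submodule.mem_sup] at hw'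
    obtain ⟨w₁, hw₁, w₂, hw₂, rfl⟩ := hw'
    rw [Submodule.ideal_span_singleton_smul] at hw₂
    obtain ⟨y, -, rfl⟩ := (Submodule.mem_smul_pointwise_iff_exists _ _ _).1 hw₂
    refine ⟨((OX.stalk x).map (modπ F P')).hom y, (hμ x y).trans ?_⟩
    rw [map_add, (stalk_modπ_eq_zero_iff F I' x w₁).2 hw₁, zero_add]
  let ψ : E ⟶ modI F P' := hex.lift (φ ≫ modπ F I') (by rw [Category.assoc, modπ_desc]; exact hJ0)
  have hψ : ψ ≫ μ = φ ≫ modπ F I' := hex.lift_f _ _
  haveI : IsIso ((Scheme.Modules.pullback i).map (modπ F P')) := by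
    refine isIso_pullback_modπ F P' i fun b hb => ?_
    have hker : P' ≤ RingHom.ker i.appTop.hom := by
      rw [Ideal.map_le_iff_le_comap]
      intro r hr
      rw [Ideal.mem_comap, RingHom.mem_ker, ← ConcreteCategory.comp_apply, ← Scheme.Hom.comp_appTop, h.w,
        Scheme.Hom.comp_appTop, ConcreteCategory.comp_apply]
      have ht0 : t.appTop r = 0 := by
        by_contra hne
        let pt : Spec (CommRingCat.of K) := p z₀
        have hu : IsUnit (t.appTop r) := by
          let e := (Scheme.ΓSpecIso (CommRingCat.of K)).commRingCatIsoToRingEquiv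
          have h0 : e (t.appTop r) ≠ (0 : K) := fun h0 => hne (e.injective (h0.trans (map_zero e).symm))
          simpa using (isUnit_iff_ne_zero.2 h0).map e.symm
        have hst : t pt = s := by
          rw [← hs, ← hx₀]
          exact congrArg (fun (g : Z ⟶ S) => g z₀) h.w.symm
        have hu' : IsUnit (t.stalkMap pt (S.presheaf.germ ⊤ (t pt) trivial r)) := by
          rw [← germ_appTop]; exact hu.map _
        have := (isUnit_germ_iff _ r).1 (isUnit_of_map_unit (t.stalkMap pt).hom _ hu')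
        rw [hst] at this
        exact this hr
      rw [ht0, map_zero]
    exact hker hb
  let πi := (Scheme.Modules.pullback i).map (modπ F P')
  have hψ0 : ∀ e : (OX.stalk x₀).obj E, ((OX.stalk x₀).map ψ).hom e ∈
      maximalIdeal (X.presheaf.stalk x₀) • (⊤ : Submodule (X.presheaf.stalk x₀) ((OX.stalk x₀).obj (modI F P'))) := by
    intro e
    obtain ⟨y, hy⟩ := stalk_modπ_surjective F P' x₀ (((OX.stalk x₀).map ψ).hom e)
    rw [← hy]
    have h1 : ((OX.stalk x₀).map φ).hom e - X.presheaf.germ ⊤ x₀ trivial (f.appTop a) • y ∈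
        idealAt I' x₀ • (⊤ : Submodule (X.presheaf.stalk x₀) ((OX.stalk x₀).obj F)) := by
      rw [← stalk_modπ_eq_zero_iff, map_sub, sub_eq_zero, ← hμ, hy, ← stalk_comp_apply, ← stalk_comp_apply, hψ]
    have hy' : y ∈ maximalIdeal (X.presheaf.stalk x₀) •
        (⊤ : Submodule (X.presheaf.stalk x₀) ((OX.stalk x₀).obj F)) := by
      subst hs
      let A := S.presheaf.stalk (f x₀)
      letI := S.presheaf.algebra_section_stalk (⟨f x₀, trivial⟩ : (⊤ : S.Opens))
      haveI : IsLocalization.AtPrime A (primeOf (f x₀)) :=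
        (isAffineOpen_top S).isLocalization_stalk ⟨f x₀, trivial⟩
      letI : Algebra A (X.presheaf.stalk x₀) := (f.stalkMap x₀).hom.toAlgebra
      rw [idealAt_map, germ_appTop] at h1
      exact mem_maximalIdeal_smul_of_retraction ρ hρ (I.map (algebraMap Γ(S, ⊤) A))
        (algebraMap Γ(S, ⊤) A a)
        (fun r hr => (socle_annihilator (A := A) (primeOf (f x₀)) I n a hn ha hPa r).1 hr) y _ (hφ e) h1
    refine Submodule.smul_induction_on hy' (fun c hc m _ => ?_) (fun u v hu hv => ?_)
    · rw [map_smul]; exact Submodule.smul_mem_smul hc trivial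
    · rw [map_add]; exact add_mem hu hv
  have hψi : (Scheme.Modules.pullback i).map ψ = 0 := by
    have h0 := hfib ((Scheme.Modules.pullback i).map ψ ≫ inv πi) (fun c => by
      subst hx₀
      rw [stalk_comp_apply]
      have hm := pullback_maximal_smul i z₀ ψ hψ0 c
      refine Submodule.smul_induction_on hm (fun r hr m _ => ?_) (fun u v hu hv => ?_)
      · rw [map_smul]; exact Submodule.smul_mem_smul hr trivial
      · rw [map_add]; exact add_mem hu hv)
    rw [← cancel_mono (inv πi), h0, zero_comp]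
  have hψ1 : ψ = 0 := by
    refine (OX.eq_zero_iff _).2 fun x => ?_
    ext e
    by_cases hx : f x = s
    · obtain ⟨z, rfl⟩ : ∃ z, i z = x := by
        haveI : Subsingleton (Spec (CommRingCat.of K)) := inferInstanceAs (Subsingleton (PrimeSpectrum K))
        obtain ⟨z, hz, -⟩ := Scheme.exists_preimage_of_isPullback h x (p z₀) (by
          rw [hx, ← hs, ← hx₀]
          exact congrArg (fun (g : Z ⟶ S) => g z₀) h.w)
        exact ⟨z, hz⟩
      obtain ⟨hsurj, hker⟩ := stalkMap_of_isPullback i z f t p h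
      refine stalk_modI_killed f hsc hx _ ?_
      rw [← hker]
      exact mem_ker_smul_of_pullback_eq_zero i z ψ hsurj hψi e
    · obtain ⟨y, hy⟩ := stalk_modπ_surjective F P' x (((OX.stalk x).map ψ).hom e)
      rw [← hy]
      refine (stalk_modπ_eq_zero_iff F P' x y).2 ?_
      rw [idealAt_eq_top_of_ne f hsc hx, Submodule.top_smul]; trivial
  rw [← hψ, hψ1, zero_comp]

include hfl h in
/-- A map to a flat module with the fibre property vanishes along the closed fibre. -/
theorem stalk_map_eq_zero [IsLocallyNoetherian S] [IsLocallyNoetherian X] (hF : Coh.IsCoh F)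
    (x₀ : X) (hx₀ : i z₀ = x₀) (s : S) (hs : f x₀ = s) (hsc : IsClosed ({s} : Set S))
    [Module.Free (X.presheaf.stalk x₀) ((OX.stalk x₀).obj F)]
    (ρ : X.presheaf.stalk x₀ →+* S.presheaf.stalk (f x₀)) [IsLocalHom ρ]
    (hρ : ∀ r, ρ ((f.stalkMap x₀).hom r) = r)
    (hφ : ∀ e : (OX.stalk x₀).obj E, ((OX.stalk x₀).map φ).hom e ∈
      RingHom.ker ρ • (⊤ : Submodule (X.presheaf.stalk x₀) ((OX.stalk x₀).obj F)))
    (hfib : ∀ ψ : (Scheme.Modules.pullback i).obj E ⟶ (Scheme.Modules.pullback i).obj F,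
      (∀ c, ((OX.stalk z₀).map ψ).hom c ∈ maximalIdeal (Z.presheaf.stalk z₀) •
        (⊤ : Submodule (Z.presheaf.stalk z₀) ((OX.stalk z₀).obj ((Scheme.Modules.pullback i).obj F)))) → ψ = 0)
    (x : X) (hx : f x = s) : (OX.stalk x).map φ = 0 := by
  ext e
  let B := X.presheaf.stalk x
  haveI : Module.Finite B ((OX.stalk x).obj F) := QuasiFlat.finite_stalk F hF x
  have hP : idealAt ((primeOf s).map f.appTop.hom) x ≤ maximalIdeal B := by
    rw [idealAt_map, Ideal.map_map, Ideal.map_le_iff_le_comap]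
    intro r hr
    subst hx
    refine map_nonunit (f.stalkMap x).hom _ ?_
    exact fun hu => (isUnit_germ_iff _ r).1 hu hr
  have key : ∀ n : ℕ, ((OX.stalk x).map φ).hom e ∈
      maximalIdeal B ^ n • (⊤ : Submodule B ((OX.stalk x).obj F)) := by
    intro n
    have h1 := (comp_modπ_eq_zero_iff φ _).1
      (comp_modπ_eq_zero f φ hfl i p t h z₀ x₀ hx₀ s hs hsc ρ hρ hφ hfib (primeOf s ^ n) n le_rfl) x e
    refine Submodule.smul_mono ?_ le_rfl h1
    rw [idealAt, Ideal.map_pow, Ideal.map_pow]
    exact Ideal.pow_right_mono hP n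
  exact (Submodule.mem_bot B).1 ((Ideal.iInf_pow_smul_eq_bot_of_isLocalRing (M := (OX.stalk x).obj F) (maximalIdeal B)
    (IsLocalRing.maximalIdeal.isMaximal B).ne_top).le ((Submodule.mem_iInf _).2 key))

end GrothLib.FlatHomZero20

end
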